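import Groth.Agent.CurvePt5.Twist
import Groth.Agent.CartExt.CurveBigDeg
import Groth.Agent.CurveCohLib.Nonspecial
import Groth.Agent.CurveCohLib.SubBundle
import Groth.Agent.H23.PicInv
import Groth.Agent.DimFormula.Jacobson
import Groth.Agent.SmoothReg.Scheme

/-!
# Nonspecial invertible modules with prescribed sections on an integral proper curve
-/

set_option linter.style.haveILetI false
set_option linter.unusedSectionVars false
set_option backward.isDefEq.respectTransparency false
set_option backward.isDefEq.respectTransparency.types false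
set_option synthInstance.maxHeartbeats 400000

universe u

open CategoryTheory CategoryTheory.Limits AlgebraicGeometry TopologicalSpace Opposite
open Groth.Agent.PnCoh.Finite (mapLin)

namespace Groth.Agent.CurvePt5

open Groth.Agent.CurveBundle Groth.Agent.CurveSlope Groth.Agent.CurvePoint Groth.Agent.CurveStable

variable {X : Scheme.{u}} (k : Type u) [Field k] [IsAlgClosed k] [X.Over (Spec (CommRingCat.of k))]
  [IsIntegral X] [IsProper (X ↘ Spec (CommRingCat.of k))]

include k in
theorem finrank_h0_structure :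
    Module.finrank k (Coh.HH X (Coh.structureModule X) 0) = 1 := by
  haveI := CartExt.geometricallyReduced_of_integral k (X := X)
  haveI := S2501.result (X ↘ Spec (CommRingCat.of k))
  exact S1536.result k X

include k in
/-- Closed points at which the curve is smooth, in any nonempty open. -/
theorem exists_smooth_closed_point (U : X.Opens) (hU : genericPoint X ∈ U) :
    ∃ p : X, p ∈ U ∧ IsClosed ({p} : Set X) ∧ IsRegularLocalRing (X.presheaf.stalk p) := by
  let f := X ↘ Spec (CommRingCat.of k)
  haveI : LocallyOfFinitePresentation f := LocallyOfFinitePresentation.iff_locallyOfFiniteType.2 inferInstance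
  haveI : JacobsonSpace X := LocallyOfFiniteType.jacobsonSpace f
  obtain ⟨p, ⟨hpU, hps⟩, hpc⟩ := nonempty_inter_closedPoints
    (Z := (U : Set X) ∩ (f.smoothLocus : Set X))
    ⟨genericPoint X, hU, Scheme.Hom.genericPoint_mem_smoothLocus_of_perfectField f⟩
    (IsOpen.isLocallyClosed (U.2.inter f.smoothLocus.2))
  exact ⟨p, hpU, hpc, SmoothReg.isRegularLocalRing_stalk_of_mem_smoothLocus f hps⟩

variable (p : X) (hp : IsClosed ({p} : Set X))

include k in
/-- The ideal of a regular closed point is invertible. -/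
theorem isInvertible_ptMod_of_regular (hdim : topologicalKrullDim X = 1)
    [IsRegularLocalRing (X.presheaf.stalk p)] : PicF.IsInvertible (ptMod p hp) := by
  haveI := CurveCohLib.isNoetherian_of_proper (k := k) (X := X)
  have hO1 := InvEnd.isFinLocFreeOfRank_one (CurveDeg.isInvertible_structureModule (X := X))
  have hS := CurvePt5.shortExact_pt p hp
  haveI : Mono (ClSub.idealModι (ptIdeal p hp)) := hS.mono_f
  haveI := DimFormula.isPrincipalIdealRing_of_regular_dim_le_one
    ((CurveCohLib.ringKrullDim_stalk_le_topologicalKrullDim p).trans hdim.le)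
  have hc := CurvePt5.isCoh_ptMod p hp k
  have hf : FlatMod.IsFinLocFree (ptMod p hp) := by
    refine QCoh.isFinLocFree_iff.2 ⟨QCoh.isCoh_iff_isFP.1 hc, fun x => ?_⟩
    by_cases hx : x = p
    · subst hx
      exact CurveBundle.free_stalk_of_mono (ClSub.idealModι (ptIdeal _ hp)) (isFinLocFree_of_rank hO1) _
    · let g := ((DerSch.stalkFunctor X x).map (ClSub.idealModι (ptIdeal p hp))).hom
      have hex := (KFlatLib.shortExact_iff_stalk _).1 hS x
      haveI := subsingleton_stalk_of_ne p hp hx
      have hsurj : Function.Surjective g := fun y => by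
        obtain ⟨z, hz⟩ := hex.exact.moduleCat_range_eq_ker.symm.le
          (show y ∈ LinearMap.ker ((DerSch.stalkFunctor X x).map (ClSub.toSubscheme (ptIdeal p hp))).hom from
            LinearMap.mem_ker.2 (Subsingleton.elim (α := (ClSub.quotMod (ptIdeal p hp)).presheaf.stalk x) _ _))
        exact ⟨z, hz⟩
      haveI : Module.Free (X.presheaf.stalk x) ((DerSch.stalkFunctor X x).obj (Coh.structureModule X)) :=
        QCoh.free_stalk_of_isFinLocFree (isFinLocFree_of_rank hO1) x
      exact Module.Free.of_equiv (LinearEquiv.ofBijective g ⟨hex.moduleCat_injective_f, hsurj⟩).symm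
  have h := rk_add_coh k _ _ _ hS QCoh.isCoh_structureModule'
  have h0 : rk (ClSub.quotMod (ptIdeal p hp)) = 0 := by
    haveI : Subsingleton ((ClSub.quotMod (ptIdeal p hp)).presheaf.stalk (genericPoint X)) := by
      refine subsingleton_stalk_of_ne p hp fun hη => ?_
      have huniv : ({p} : Set X) = Set.univ := Set.eq_univ_of_forall fun y =>
        ((genericPoint_spec X).specializes (Set.mem_univ y)).mem_closed hp (hη ▸ rfl)
      have h1 : topologicalKrullDim ({p} : Set X) = topologicalKrullDim X := by
        rw [huniv]; exact IsHomeomorph.topologicalKrullDim_eq _ (Homeomorph.Set.univ X).isHomeomorph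
      rw [hdim] at h1
      haveI : Subsingleton ↥({p} : Set X) := Set.subsingleton_singleton.coe_sort
      have h2 : topologicalKrullDim ↥({p} : Set X) ≤ 0 := by
        haveI : QuasiSober ↥({p} : Set X) := hp.isClosedEmbedding_subtypeVal.quasiSober
        rw [DimFormula.topologicalKrullDim_subset]
        exact Order.krullDim_nonpos_of_subsingleton
      rw [h1] at h2
      exact absurd h2 (by decide)
    letI := (isField_stalk_generic (X := X)).toField
    exact Module.finrank_zero_of_subsingleton
  rw [rk_eq hO1, h0] at h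
  have h2 : 1 = rk (ptMod p hp) + 0 := h
  have h' : rk (ptMod p hp) = 1 := by omega
  intro x
  obtain ⟨U, hx, ⟨e⟩⟩ := (h' ▸ isFinLocFreeOfRank_rk hf) x
  exact ⟨U, hx, ⟨e ≪≫ coproductUniqueIso _⟩⟩

theorem deg_ptMod' : Curv2.deg k X (ptMod p hp) 1 = -1 := by
  haveI := CurveCohLib.isNoetherian_of_proper (k := k) (X := X)
  have h := euler_add' k _ _ _ (CurvePt5.shortExact_pt p hp) (CurvePt5.isCoh_ptMod p hp k)
    QCoh.isCoh_structureModule' (CurvePt5.isCoh_quot p hp k)
  rw [CurvePt5.euler_quot p hp k] at h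
  unfold Curv2.deg
  push_cast
  linarith

omit p hp in
/-- Invertible modules of every natural degree. -/
theorem exists_deg_eq (hdim : topologicalKrullDim X = 1) (n : ℕ) :
    ∃ L : X.Modules, PicF.IsInvertible L ∧ Curv2.deg k X L 1 = n := by
  obtain ⟨p, -, hp, hreg⟩ := exists_smooth_closed_point k (⊤ : X.Opens) trivial
  haveI := hreg
  have hI := isInvertible_ptMod_of_regular k p hp hdim
  obtain ⟨J, hJ, ⟨e⟩⟩ := H23.PicInv.exists_inverse hI
  have hO : Curv2.deg k X (Coh.structureModule X) 1 = 0 := by
    unfold Curv2.deg; ring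
  have hJd : Curv2.deg k X J 1 = 1 := by
    have h := CurveRR.deg_tensor k hdim hI hJ
    rw [CurveRR.deg_congr k (show (DCoh.tensorBi.obj (ptMod p hp)).obj J ≅ Coh.structureModule X from e) 1,
      deg_ptMod' k p hp, hO] at h
    linarith
  induction n with
  | zero => exact ⟨_, CurveDeg.isInvertible_structureModule, by rw [hO]; rfl⟩
  | succ n ih =>
    obtain ⟨L, hL, hd⟩ := ih
    refine ⟨(DCoh.tensorBi.obj L).obj J, InvX.isInvertible_tensorMod hL hJ, ?_⟩
    rw [CurveRR.deg_tensor k hdim hL hJ, hd, hJd]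
    push_cast; ring

omit p hp in
/-- Removing one section by twisting down by a suitable point. -/
theorem exists_step (hdim : topologicalKrullDim X = 1) {L : X.Modules} (hL : PicF.IsInvertible L)
    [Subsingleton (Coh.HH X L 1)] (hpos : 0 < Module.finrank k (Coh.HH X L 0)) :
    ∃ L' : X.Modules, PicF.IsInvertible L' ∧ Subsingleton (Coh.HH X L' 1) ∧
      Module.finrank k (Coh.HH X L' 0) + 1 = Module.finrank k (Coh.HH X L 0) := by
  haveI := CurveCohLib.isNoetherian_of_proper (k := k) (X := X)
  have hLc := CurveDeg.isCoh_of_isInvertible hL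
  haveI := CurveCohLib.finite_HH (k := k) hLc 0
  haveI : Nontrivial (Coh.HH X L 0) := Module.finrank_pos_iff.1 hpos
  obtain ⟨t, ht⟩ := exists_ne (0 : Coh.HH X L 0)
  let s : Γ(L, ⊤) := Sheaf.H.equiv₀ (Coh.toAb L) isTerminalTop t
  let φ : Coh.structureModule X ⟶ L := QCoh.homOfTop s
  have hφ : φ ≠ 0 := by
    intro h0
    apply ht
    have h1 := congrArg (fun φ => Scheme.Modules.Hom.app φ ⊤ (1 : Γ(X, ⊤))) h0
    simp only [φ] at h1
    rw [QCoh.homOfTop_app, one_smul] at h1
    refine (Sheaf.H.equiv₀ (Coh.toAb L) isTerminalTop).injective ((Eq.trans ?_ h1).trans (map_zero _).symm)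
    exact (ConcreteCategory.congr_hom (L.presheaf.map_id _) _).symm
  obtain ⟨hm, hrk⟩ := CurveCohLib.Nonspecial.section_of_sub k hLc hL (𝟙 L) φ hφ
  haveI := hm
  have hC : Coh.IsCoh (cokernel φ) := QCoh.isCoh_cokernel QCoh.isQCoh_structureModule hLc φ
  have hη : genericPoint X ∉ CohB1.support (cokernel φ) := fun hx => by
    letI := (isField_stalk_generic (X := X)).toField
    haveI := QCoh.finite_stalk_of_isFT hC.1 hC.2 (genericPoint X)
    exact hx (Module.finrank_zero_iff.1 hrk)
  obtain ⟨p, hpU, hp, hreg⟩ := exists_smooth_closed_point k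
    (⟨(CohB1.support (cokernel φ))ᶜ, (QCoh.isClosed_support_of_isFT hC.1 hC.2).isOpen_compl⟩ : X.Opens) hη
  haveI := hreg
  have hI := isInvertible_ptMod_of_regular k p hp hdim
  refine ⟨(DCoh.tensorBi.obj L).obj (ptMod p hp), InvX.isInvertible_tensorMod hL hI, ?_⟩
  have hgen : ∀ v : L.presheaf.stalk p, ∃ t' : Coh.HH X L 0,
      v - L.presheaf.germ ⊤ p trivial (Sheaf.H.equiv₀ (Coh.toAb L) isTerminalTop t' : Γ(L, ⊤)) ∈
        IsLocalRing.maximalIdeal (X.presheaf.stalk p) • (⊤ : Submodule (X.presheaf.stalk p) (L.presheaf.stalk p)) := by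
    intro v
    haveI : Epi ((DerSch.stalkFunctor X p).map φ) := by
      refine Preadditive.epi_of_isZero_cokernel _ (IsZero.of_iso ?_ (PreservesCokernel.iso (DerSch.stalkFunctor X p) φ).symm)
      haveI : Subsingleton ((DerSch.stalkFunctor X p).obj (cokernel φ)) := not_not.1 hpU
      exact ModuleCat.isZero_of_subsingleton _
    obtain ⟨y, hy⟩ := (ModuleCat.epi_iff_surjective ((DerSch.stalkFunctor X p).map φ)).1 inferInstance v
    obtain ⟨a, ha⟩ := CurveSection.homOfTop_stalk_eq_smul s p y
    obtain ⟨c, hc⟩ := CurveSection.exists_stalkMap_sub_mem k hp a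
    refine ⟨c • t, ?_⟩
    have hv : v = a • L.presheaf.germ ⊤ p trivial s := hy.symm.trans ha
    letI := CurveCohLib.stalkModuleK k L p
    have hct : L.presheaf.germ ⊤ p trivial (Sheaf.H.equiv₀ (Coh.toAb L) isTerminalTop (c • t) : Γ(L, ⊤)) =
        Curv2.stalkMap k X p c • L.presheaf.germ ⊤ p trivial s :=
      CurveCohLib.germ_h0Equiv_smul L c t p
    rw [hct, hv, ← sub_smul]
    exact Submodule.smul_mem_smul hc Submodule.mem_top
  have h2 := (CurvePt5.finrank_twist p hp k (InvEnd.isFinLocFreeOfRank_one hL)).2 hgen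
  refine ⟨?_, h2⟩
  have hI'c := CurveDeg.isCoh_of_isInvertible (InvX.isInvertible_tensorMod hL hI)
  have hd := CurveRR.deg_tensor k hdim hL hI
  rw [deg_ptMod' k p hp] at hd
  unfold Curv2.deg at hd
  have e1 := CurveRR.euler_eq_h0_sub_h1 k hdim.le (M := (DCoh.tensorBi.obj L).obj (ptMod p hp)) hI'c.1
  have e2 := CurveRR.euler_eq_h0_sub_h1 k hdim.le hLc.1
  rw [Module.finrank_zero_of_subsingleton (M := Coh.HH X L 1)] at e2
  haveI : Module.Finite k (Coh.HH X ((DCoh.tensorBi.obj L).obj (ptMod p hp)) 1) :=
    CurveCohLib.finite_HH (k := k) hI'c 1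
  exact Module.finrank_zero_iff.1 (show Module.finrank k (Coh.HH X ((DCoh.tensorBi.obj L).obj (ptMod p hp)) 1) = 0 by
    push_cast at hd
    omega)

omit p hp in
/-- Nonspecial invertible modules with any number of sections up to a bound. -/
theorem exists_h0_eq (hdim : topologicalKrullDim X = 1) (r : ℕ) :
    ∃ L : X.Modules, PicF.IsInvertible L ∧ Module.finrank k (Coh.HH X L 0) = r ∧ Subsingleton (Coh.HH X L 1) := by
  haveI := CurveCohLib.isNoetherian_of_proper (k := k) (X := X)
  obtain ⟨L, hL, hd⟩ := exists_deg_eq k hdim (r + 2 * Curv2.genus k X + 1) (X := X)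
  haveI h1 := CartExt.subsingleton_HH_one_of_deg k hdim.le hL (by rw [hd]; push_cast; omega)
  have hχ := CurveRR.euler_eq_h0_sub_h1 k hdim.le (CurveDeg.isCoh_of_isInvertible hL).1
  rw [Module.finrank_zero_of_subsingleton (M := Coh.HH X L 1)] at hχ
  have h0 := CurveCohLib.Nonspecial.euler_structure k hdim (finrank_h0_structure k) (X := X)
  unfold Curv2.deg at hd
  rw [h0, hχ] at hd
  have hge : r ≤ Module.finrank k (Coh.HH X L 0) := by push_cast at hd; omega
  clear hd hχ h0
  obtain ⟨d, hd⟩ := Nat.exists_eq_add_of_le hge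
  clear hge
  induction d generalizing L with
  | zero => exact ⟨L, hL, hd, h1⟩
  | succ d ih =>
    obtain ⟨L', hL', h1', h0'⟩ := exists_step k hdim hL (by omega)
    exact ih L' hL' h1' (by omega)

end Groth.Agent.CurvePt5
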