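import Groth.Agent.Lib.CurvePoint
import Groth.Agent.Lib.CurveSection
import Groth.Agent.Lib.CurveRR
import Groth.Agent.ParShLib.ResStalk
import Groth.Agent.BMLib.Piece

/-!
The ideal of a closed point of an integral curve over an algebraically closed field, and twisting by it.
-/

set_option linter.style.haveILetI false
set_option linter.unusedSectionVars false
set_option backward.isDefEq.respectTransparency false
set_option backward.isDefEq.respectTransparency.types false

universe u

open CategoryTheory CategoryTheory.Limits AlgebraicGeometry TopologicalSpace Opposite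
open Groth.Agent.PnCoh.Finite (mapLin)

namespace Groth.Agent.CurvePt5

open Groth.Agent.CurveBundle Groth.Agent.CurvePoint Groth.Agent.CurveSlope Groth.Agent.CurveStable

variable {X : Scheme.{u}}

variable (p : X) (hp : IsClosed ({p} : Set X))

variable (k : Type u) [Field k] [X.Over (Spec (CommRingCat.of k))] [IsIntegral X]
  [IsProper (X ↘ Spec (CommRingCat.of k))]

include k in
theorem isCoh_quot : Coh.IsCoh (ClSub.quotMod (ptIdeal p hp)) := by
  haveI := CurveCohLib.isNoetherian_of_proper (k := k) (X := X)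
  exact ParShLib.isCoh_quotMod (ptIdeal p hp)

theorem closed_support : ∀ x ∈ CohB1.support (ClSub.quotMod (ptIdeal p hp)), IsClosed ({x} : Set X) :=
  fun _ hx => Set.mem_singleton_iff.1 (support_quot_subset p hp hx) ▸ hp

theorem euler_quot [IsAlgClosed k] : Curv2.euler k X (ClSub.quotMod (ptIdeal p hp)) = 1 := by
  classical
  haveI := CurveCohLib.isNoetherian_of_proper (k := k) (X := X)
  let Q := ClSub.quotMod (ptIdeal p hp)
  obtain ⟨h, hfin⟩ := CurveCohLib.euler_eq_sum_stalks (k := k) (isCoh_quot p hp k)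
    (closed_support p hp) {p} (by simpa using support_quot_subset p hp)
  rw [h, Finset.sum_singleton]
  letI := CurveCohLib.stalkModuleK k Q p
  haveI := hfin p (Finset.mem_singleton_self p)
  haveI : Nontrivial (Q.presheaf.stalk p) := not_subsingleton_iff_nontrivial.1 (not_subsingleton_stalk p hp)
  obtain ⟨q₀, hq₀⟩ : ∃ q₀ : Q.presheaf.stalk p, ∀ q, ∃ a : X.presheaf.stalk p, q = a • q₀ :=
    ParShLib.exists_germ_smul (ptIdeal p hp) p
  let L : k →ₗ[k] Q.presheaf.stalk p :=
    { toFun := fun c => Curv2.stalkMap k X p c • q₀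
      map_add' := fun c d => by rw [map_add, add_smul]
      map_smul' := fun a c => by
        show Curv2.stalkMap k X p (a * c) • q₀ = Curv2.stalkMap k X p a • (Curv2.stalkMap k X p c • q₀)
        rw [map_mul, mul_smul] }
  have hL : Function.Surjective L := fun q => by
    obtain ⟨a, ha⟩ := hq₀ q
    obtain ⟨c, hc⟩ := CurveSection.exists_stalkMap_sub_mem k hp a
    refine ⟨c, ?_⟩
    have h0 := smul_quot_eq_zero p hp hc q₀
    rw [sub_smul, sub_eq_zero] at h0
    exact h0.symm.trans (ha.symm : a • q₀ = q)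
  have h1 := LinearMap.finrank_le_finrank_of_surjective hL
  have h2 : 0 < Module.finrank k (Q.presheaf.stalk p) := Module.finrank_pos
  rw [Module.finrank_self] at h1
  exact_mod_cast le_antisymm h1 h2

theorem shortExact_pt :
    (ShortComplex.mk (ClSub.idealModι (ptIdeal p hp)) (ClSub.toSubscheme (ptIdeal p hp))
      (kernel.condition _)).ShortExact := by
  haveI := epi_toSubscheme (ptIdeal p hp)
  exact CurveSlope.shortExact_kernel_of_epi _

include k in
theorem isCoh_ptMod : Coh.IsCoh (ptMod p hp) := by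
  haveI := CurveCohLib.isNoetherian_of_proper (k := k) (X := X)
  exact QCoh.isCoh_kernel QCoh.isCoh_structureModule' (isCoh_quot p hp k) _

theorem shortExact_of_iso_mid {A B B' C : X.Modules} (f : A ⟶ B) (g : B ⟶ C) (w : f ≫ g = 0)
    (hS : (ShortComplex.mk f g w).ShortExact) (u : B ≅ B') :
    (ShortComplex.mk (f ≫ u.hom) (u.inv ≫ g) (by rw [Category.assoc, Iso.hom_inv_id_assoc, w])).ShortExact :=
  ShortComplex.shortExact_of_iso (S₁ := ShortComplex.mk f g w)
    (ShortComplex.isoMk (Iso.refl _) u (Iso.refl _) (by simp) (by simp)) hS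

include hp in
/-- The count of sections in a twist, for an abstract evaluation sequence. -/
theorem finrank_of_eval [IsAlgClosed k] {S : ShortComplex X.Modules}
    (hT : S.ShortExact) (hB : Coh.IsCoh S.X₂) (hC : Coh.IsCoh S.X₃)
    (hsupp : CohB1.support S.X₃ ⊆ {p})
    (hkill : ∀ a ∈ IsLocalRing.maximalIdeal (X.presheaf.stalk p), ∀ q : S.X₃.presheaf.stalk p, a • q = 0)
    {r : ℕ} (hr : Module.finrank k (Coh.HH X S.X₃ 0) = r) :
    Module.finrank k (Coh.HH X S.X₂ 0) ≤ Module.finrank k (Coh.HH X S.X₁ 0) + r ∧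
      ((∀ v : S.X₂.presheaf.stalk p, ∃ t : Coh.HH X S.X₂ 0,
          v - S.X₂.presheaf.germ ⊤ p trivial (Sheaf.H.equiv₀ (Coh.toAb S.X₂) isTerminalTop t : Γ(S.X₂, ⊤)) ∈
            IsLocalRing.maximalIdeal (X.presheaf.stalk p) •
              (⊤ : Submodule (X.presheaf.stalk p) (S.X₂.presheaf.stalk p))) →
        Module.finrank k (Coh.HH X S.X₁ 0) + r = Module.finrank k (Coh.HH X S.X₂ 0)) := by
  classical
  haveI := CurveCohLib.isNoetherian_of_proper (k := k) (X := X)
  haveI := S0002.result k X S.X₂ hB 0
  haveI := S0002.result k X S.X₃ hC 0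
  have hcl : ∀ x ∈ CohB1.support S.X₃, IsClosed ({x} : Set X) := fun x hx =>
    Set.mem_singleton_iff.1 (hsupp hx) ▸ hp
  have hker : LinearMap.ker (mapLin k S.g 0) = LinearMap.range (mapLin k S.f 0) :=
    CurveCohLib.ker_mapLin_g k hT 0
  have hinj : Function.Injective (mapLin k S.f 0) := CurveCohLib.mapLin_f_zero_injective k hT
  have hsum := LinearMap.finrank_range_add_finrank_ker (mapLin k S.g 0)
  rw [hker, LinearMap.finrank_range_of_inj hinj] at hsum
  have hle : Module.finrank k (LinearMap.range (mapLin k S.g 0)) ≤ r :=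
    (Submodule.finrank_le _).trans hr.le
  refine ⟨by omega, fun hgen => ?_⟩
  obtain ⟨e, he⟩ := CurveCohLib.exists_h0Equiv (k := k) hC hcl {p} (by simpa using hsupp)
  have hsurj : Function.Surjective (mapLin k S.g 0) := fun y => by
    let F := DerSch.stalkFunctor X p
    haveI : Epi (F.map S.g) := by
      haveI : Epi S.g := hT.epi_g
      infer_instance
    obtain ⟨(v : S.X₂.presheaf.stalk p), hv⟩ := (ModuleCat.epi_iff_surjective (F.map S.g)).1 inferInstance
      (show F.obj S.X₃ from e y ⟨p, Finset.mem_singleton_self p⟩)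
    obtain ⟨t, ht⟩ := hgen v
    refine ⟨t, e.injective (funext fun x => ?_)⟩
    obtain ⟨x, hx⟩ := x
    obtain rfl : p = x := (Finset.mem_singleton.1 hx).symm
    rw [he]
    refine Eq.trans ?_ hv
    have h2 : F.map S.g (v - S.X₂.presheaf.germ ⊤ p trivial
        (Sheaf.H.equiv₀ (Coh.toAb S.X₂) isTerminalTop t : Γ(S.X₂, ⊤))) = 0 := by
      refine Submodule.smul_induction_on ht (fun a ha m _ => ?_) fun a b ha hb => ?_
      · exact (map_smul (F.map S.g).hom a m).trans (hkill a ha _)
      · exact (map_add (F.map S.g).hom a b).trans ((congrArg₂ (· + ·) ha hb).trans (add_zero _))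
    rw [map_sub, sub_eq_zero] at h2
    refine Eq.trans ?_ h2.symm
    refine Eq.trans ?_ (TopCat.Presheaf.stalkFunctor_map_germ_apply ⊤ p trivial
      ((Scheme.Modules.toPresheaf X).map S.g) _).symm
    refine congrArg (S.X₃.presheaf.germ ⊤ p trivial) ?_
    exact (Sheaf.H.equiv₀_naturality isTerminalTop ((QCoh.toAbFunctor X).map S.g) t).symm
  rw [LinearMap.range_eq_top.2 hsurj, finrank_top, hr] at hsum
  omega

/-- Sections of a bundle lose at most its rank on twisting by a point, and exactly its rank when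
the global sections generate the fibre. -/
theorem finrank_twist [IsAlgClosed k] {G : X.Modules} {r : ℕ}
    (hG : FlatMod.IsFinLocFreeOfRank r G) :
    Module.finrank k (Coh.HH X G 0) ≤
        Module.finrank k (Coh.HH X ((DCoh.tensorBi.obj G).obj (ptMod p hp)) 0) + r ∧
      ((∀ v : G.presheaf.stalk p, ∃ t : Coh.HH X G 0,
          v - G.presheaf.germ ⊤ p trivial (Sheaf.H.equiv₀ (Coh.toAb G) isTerminalTop t : Γ(G, ⊤)) ∈
            IsLocalRing.maximalIdeal (X.presheaf.stalk p) •
              (⊤ : Submodule (X.presheaf.stalk p) (G.presheaf.stalk p))) →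
        Module.finrank k (Coh.HH X ((DCoh.tensorBi.obj G).obj (ptMod p hp)) 0) + r =
          Module.finrank k (Coh.HH X G 0)) := by
  haveI := CurveCohLib.isNoetherian_of_proper (k := k) (X := X)
  have hGf := isFinLocFree_of_rank hG
  have hQc := CurveTensor.isCoh_tensor hGf (isCoh_quot p hp k)
  have hsupp := (CurveTensor.support_tensor_subset (E := G)).trans (support_quot_subset p hp)
  have hr : Module.finrank k (Coh.HH X ((DCoh.tensorBi.obj G).obj (ClSub.quotMod (ptIdeal p hp))) 0) = r := by
    have h1 := CurveTensor.euler_tensor_torsion k hG (isCoh_quot p hp k) (closed_support p hp)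
    rw [euler_quot p hp k, CurveCohLib.euler_eq_finrank_zero hQc
      (fun x hx => Set.mem_singleton_iff.1 (hsupp hx) ▸ hp)] at h1
    omega
  exact finrank_of_eval p hp k
    (shortExact_of_iso_mid _ _ _
      (CurveTensor.shortExact_tensor hGf _ _ _ (shortExact_pt p hp)) (KFlatLib.tensorUnitIso G))
    (QCoh.isCoh_iff_isFP.2 (QCoh.isFP_of_isFinLocFree hGf)) hQc hsupp (fun a ha q => smul_tensor_eq_zero p hp ha q) hr

end Groth.Agent.CurvePt5
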